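import Mathlib

/-!
# Subspaces of `k[[t]]` and their value sets  (helper19, for S15023)

`finrank_quot_eq_ncard_gaps` is adapted from helper22's proof of S15015 (there for a subalgebra).
-/

namespace Groth.Agent.Helper19.TFCurv

universe u

open PowerSeries in
/-- For a `k`-subspace `W ⊆ k[[t]]` containing `t^N k[[t]]`, the codimension of `W` is the number
of gaps of its value set. -/
theorem finrank_quot_eq_ncard_gaps {k : Type u} [Field k] (W : Submodule k (PowerSeries k)) (N : ℕ)
    (hN : ∀ h : PowerSeries k, (N : ℕ∞) ≤ h.order → h ∈ W)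
    (Δ : Set ℕ) (hΔ : ∀ n, n ∈ Δ ↔ ∃ f ∈ W, PowerSeries.order f = n) :
    Δᶜ.Finite ∧ Module.finrank k (PowerSeries k ⧸ W) = Δᶜ.ncard := by
  classical
  have hcΔ : ∀ n : ℕ, N ≤ n → n ∈ Δ := by
    intro n hn
    rw [hΔ]
    refine ⟨PowerSeries.X ^ n, hN _ ?_, PowerSeries.order_X_pow n⟩
    rw [PowerSeries.order_X_pow]
    exact_mod_cast hn
  have hfin : Δᶜ.Finite := by
    apply (Set.finite_Iio N).subset
    intro n hn
    rw [Set.mem_Iio]
    by_contra hge
    exact hn (hcΔ n (by omega))
  refine ⟨hfin, ?_⟩
  haveI : Fintype ↥(Δᶜ) := hfin.fintype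
  let v : ↥(Δᶜ) → (PowerSeries k ⧸ W) :=
    fun g => W.mkQ ((PowerSeries.X : PowerSeries k) ^ (g : ℕ))
  have hmk0 : ∀ x : PowerSeries k, x ∈ W → W.mkQ x = 0 := by
    intro x hx
    rw [← LinearMap.mem_ker, Submodule.ker_mkQ]; exact hx
  have hli : LinearIndependent k v := by
    rw [Fintype.linearIndependent_iff]
    intro l hl
    obtain ⟨P, hP⟩ : ∃ P : PowerSeries k,
        P = ∑ g : ↥(Δᶜ), l g • (PowerSeries.X : PowerSeries k) ^ (g : ℕ) := ⟨_, rfl⟩
    have hPA : P ∈ W := by
      have : P ∈ LinearMap.ker W.mkQ := by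
        rw [LinearMap.mem_ker, hP, map_sum]
        simp_rw [map_smul]
        exact hl
      rw [Submodule.ker_mkQ] at this
      exact this
    have hcoeff1 : ∀ n, n ∈ Δ → PowerSeries.coeff n P = 0 := by
      intro n hn
      rw [hP, map_sum]
      apply Finset.sum_eq_zero
      intro g _
      rw [map_smul, PowerSeries.coeff_X_pow, if_neg, smul_zero]
      intro h; exact g.2 (h ▸ hn)
    have hcoeff2 : ∀ g : ↥(Δᶜ), PowerSeries.coeff (g : ℕ) P = l g := by
      intro g
      rw [hP, map_sum, Finset.sum_eq_single g]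
      · rw [map_smul, PowerSeries.coeff_X_pow, if_pos rfl, smul_eq_mul, mul_one]
      · intro g' _ hne
        rw [map_smul, PowerSeries.coeff_X_pow, if_neg, smul_zero]
        intro h; exact hne (Subtype.ext h.symm)
      · intro h; exact absurd (Finset.mem_univ g) h
    have hP0 : P = 0 := by
      by_contra hne
      have h1 := PowerSeries.coeff_order hne
      have h2 : P.order.toNat ∈ Δ :=
        (hΔ _).mpr ⟨P, hPA, (PowerSeries.coe_toNat_order hne).symm⟩
      exact h1 (hcoeff1 _ h2)
    intro g
    rw [← hcoeff2 g, hP0, map_zero]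
  have hspan : ⊤ ≤ Submodule.span k (Set.range v) := by
    have claim : ∀ d : ℕ, ∀ h : PowerSeries k, ((N - d : ℕ) : ℕ∞) ≤ PowerSeries.order h →
        W.mkQ h ∈ Submodule.span k (Set.range v) := by
      intro d
      induction d with
      | zero =>
        intro h hh
        rw [hmk0 h (hN h (by simpa using hh))]
        exact Submodule.zero_mem _
      | succ d ih =>
        intro h hh
        by_cases hd : N ≤ d
        · apply ih h
          have e : N - d = N - (d + 1) := by omega
          rw [e]; exact hh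
        · push Not at hd
          obtain ⟨n, hn⟩ : ∃ n, n = N - (d + 1) := ⟨_, rfl⟩
          rw [← hn] at hh
          have hn1 : N - d = n + 1 := by omega
          by_cases hnΓ : n ∈ Δ
          · obtain ⟨b, hb, hbn⟩ := (hΔ n).mp hnΓ
            obtain ⟨hbn0, hblt⟩ := PowerSeries.order_eq_nat.mp hbn
            have hh' : ((N - d : ℕ) : ℕ∞) ≤ PowerSeries.order
                (h - (PowerSeries.coeff n h / PowerSeries.coeff n b) • b) := by
              rw [hn1]
              apply PowerSeries.nat_le_order
              intro i hi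
              rw [map_sub, map_smul, smul_eq_mul]
              rcases Nat.lt_succ_iff_lt_or_eq.mp hi with hlt | heq
              · rw [PowerSeries.coeff_of_lt_order i (lt_of_lt_of_le (by exact_mod_cast hlt) hh),
                  hblt i hlt, mul_zero, sub_zero]
              · rw [heq, div_mul_cancel₀ _ hbn0, sub_self]
            have h1 := ih _ hh'
            rw [map_sub, hmk0 _ (W.smul_mem _ hb), sub_zero] at h1
            exact h1
          · have hh' : ((N - d : ℕ) : ℕ∞) ≤ PowerSeries.order
                (h - PowerSeries.coeff n h • (PowerSeries.X : PowerSeries k) ^ n) := by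
              rw [hn1]
              apply PowerSeries.nat_le_order
              intro i hi
              rw [map_sub, map_smul, smul_eq_mul, PowerSeries.coeff_X_pow]
              rcases Nat.lt_succ_iff_lt_or_eq.mp hi with hlt | heq
              · rw [PowerSeries.coeff_of_lt_order i (lt_of_lt_of_le (by exact_mod_cast hlt) hh),
                  if_neg (by omega), mul_zero, sub_zero]
              · rw [heq, if_pos rfl, mul_one, sub_self]
            have h1 := ih _ hh'
            rw [map_sub, map_smul] at h1
            have h2 : W.mkQ ((PowerSeries.X : PowerSeries k) ^ n) ∈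
                Submodule.span k (Set.range v) :=
              Submodule.subset_span ⟨⟨n, hnΓ⟩, rfl⟩
            have h3 := Submodule.add_mem _ h1 (Submodule.smul_mem _ (PowerSeries.coeff n h) h2)
            rwa [sub_add_cancel] at h3
    intro x _
    obtain ⟨h, rfl⟩ := Submodule.mkQ_surjective _ x
    exact claim N h (by simp)
  rw [Module.finrank_eq_nat_card_basis (Module.Basis.mk hli hspan), Nat.card_coe_set_eq]

/-- Combinatorial bound on the conductor of a `Γ`-module `Δ ⊇ Γ`. -/
theorem conductor_le {Γ Δ : Set ℕ} (hsub : Γ ⊆ Δ) (hadd : ∀ a ∈ Γ, ∀ b ∈ Δ, a + b ∈ Δ)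
    (hΓfin : Γᶜ.Finite) (c₁ : ℕ) (hc₁ : c₁ = 0 ∨ c₁ - 1 ∉ Δ) :
    c₁ ≤ Γᶜ.ncard + Δᶜ.ncard := by
  classical
  rcases hc₁ with h0 | hc₁
  · omega
  have hΔfin : Δᶜ.Finite := hΓfin.subset (Set.compl_subset_compl.mpr hsub)
  have h1 : ((Finset.range c₁).filter (· ∈ Γ)).card + ((Finset.range c₁).filter (· ∉ Γ)).card
      = c₁ := by
    rw [Finset.card_filter_add_card_filter_not, Finset.card_range]
  have h2 : ((Finset.range c₁).filter (· ∉ Γ)).card ≤ Γᶜ.ncard := by
    rw [Set.ncard_eq_toFinset_card _ hΓfin]
    apply Finset.card_le_card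
    intro n hn
    rw [Finset.mem_filter] at hn
    rw [Set.Finite.mem_toFinset]
    exact hn.2
  have h3 : ((Finset.range c₁).filter (· ∈ Γ)).card ≤ Δᶜ.ncard := by
    rw [Set.ncard_eq_toFinset_card _ hΔfin]
    apply Finset.card_le_card_of_injOn (fun γ => c₁ - 1 - γ)
    · intro γ hγ
      rw [Finset.coe_filter] at hγ
      obtain ⟨hγ1, hγ2⟩ := hγ
      rw [Finset.mem_range] at hγ1
      rw [Finset.mem_coe, Set.Finite.mem_toFinset]
      intro hmem
      apply hc₁
      have := hadd γ hγ2 _ hmem
      have e : γ + (c₁ - 1 - γ) = c₁ - 1 := by omega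
      rwa [e] at this
    · intro a ha b hb hab
      rw [Finset.coe_filter] at ha hb
      have ha1 := Finset.mem_range.mp ha.1
      have hb1 := Finset.mem_range.mp hb.1
      simp only at hab
      omega
  omega

end Groth.Agent.Helper19.TFCurv
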