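import Mathlib

/-!
# General position over an infinite residue field

helper19, for S15009.
-/

namespace Groth.Agent.Helper19.TFCurv

open IsLocalRing

universe u v

section ModAvoid

variable {O : Type u} [CommRing O] [IsLocalRing O] [Infinite (ResidueField O)]
  {M : Type v} [AddCommGroup M] [Module O M]

/-- Avoidance of finitely many proper submodules containing `mM`. -/
theorem exists_notMem_submodules {ι : Type*} [Finite ι] (T : ι → Submodule O M)
    (hT1 : ∀ i, maximalIdeal O • (⊤ : Submodule O M) ≤ T i) (hT2 : ∀ i, T i ≠ ⊤) :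
    ∃ x : M, ∀ i, x ∉ T i := by
  by_contra hcon
  push Not at hcon
  letI : Field (O ⧸ maximalIdeal O) := Ideal.Quotient.field _
  haveI : Infinite (O ⧸ maximalIdeal O) := inferInstanceAs (Infinite (ResidueField O))
  set mM : Submodule O M := maximalIdeal O • (⊤ : Submodule O M) with hmM
  let U : ι → Submodule (O ⧸ maximalIdeal O) (M ⧸ mM) := fun i =>
    { carrier := {v | ∃ y ∈ T i, mM.mkQ y = v}
      add_mem' := by
        rintro _ _ ⟨y₁, h₁, rfl⟩ ⟨y₂, h₂, rfl⟩
        exact ⟨y₁ + y₂, (T i).add_mem h₁ h₂, map_add _ _ _⟩
      zero_mem' := ⟨0, (T i).zero_mem, map_zero _⟩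
      smul_mem' := by
        rintro c _ ⟨y, hy, rfl⟩
        obtain ⟨r, rfl⟩ := Ideal.Quotient.mk_surjective c
        exact ⟨r • y, (T i).smul_mem r hy, by rw [map_smul]; rfl⟩ }
  have hcover : ⋃ i, (U i : Set (M ⧸ mM)) = Set.univ := by
    rw [Set.eq_univ_iff_forall]
    intro v
    obtain ⟨y, rfl⟩ := Submodule.mkQ_surjective mM v
    obtain ⟨i, hi⟩ := hcon y
    exact Set.mem_iUnion.mpr ⟨i, ⟨y, hi, rfl⟩⟩
  obtain ⟨i, hi⟩ := Subspace.exists_eq_top_of_iUnion_eq_univ hcover
  apply hT2 i
  rw [eq_top_iff]
  intro y _
  have : mM.mkQ y ∈ U i := by rw [hi]; exact Submodule.mem_top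
  obtain ⟨y', hy', heq⟩ := this
  rw [Submodule.mkQ_apply, Submodule.mkQ_apply, Submodule.Quotient.eq] at heq
  have h2 : y' - y ∈ T i := hT1 i heq
  have : y = y' - (y' - y) := by abel
  rw [this]
  exact (T i).sub_mem hy' h2

end ModAvoid

section GenPos

variable {O : Type u} [CommRing O] [IsLocalRing O] [Infinite (ResidueField O)]
  {B : Type u} [CommRing B] [Algebra O B] [Finite (MaximalSpectrum B)]
  {M : Type v} [AddCommGroup M] [Module O M]

/-- reduction mod `P` on vectors -/
noncomputable abbrev red (n : ℕ) (P : Ideal B) : (Fin n → B) →ₗ[B] (Fin n → B ⧸ P) :=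
  (Submodule.mkQ P).compLeft (Fin n)

attribute [local instance] Ideal.Quotient.field in
theorem exists_isUnit_det (n : ℕ) (c : M →ₗ[O] (Fin n → B))
    (hmP : ∀ P : MaximalSpectrum B, (maximalIdeal O).map (algebraMap O B) ≤ P.asIdeal)
    (hspan : Submodule.span B (Set.range c) = ⊤) :
    ∃ m : Fin n → M, IsUnit (Matrix.of (fun t => c (m t))).det := by
  classical
  -- inductive choice
  have key : ∀ i, i ≤ n → ∃ m : Fin i → M, ∀ P : MaximalSpectrum B,
      LinearIndependent (B ⧸ P.asIdeal) (fun t => red n P.asIdeal (c (m t))) := by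
    intro i
    induction i with
    | zero =>
      intro _
      exact ⟨Fin.elim0, fun P => linearIndependent_empty_type⟩
    | succ i ih =>
      intro hi
      obtain ⟨m, hm⟩ := ih (Nat.le_of_succ_le hi)
      -- the submodules to avoid
      let S : ∀ P : MaximalSpectrum B, Submodule (B ⧸ P.asIdeal) (Fin n → B ⧸ P.asIdeal) :=
        fun P => Submodule.span (B ⧸ P.asIdeal)
          (Set.range (fun t => red n P.asIdeal (c (m t))))
      let cP : ∀ P : MaximalSpectrum B, M →ₗ[O] (Fin n → B ⧸ P.asIdeal) :=
        fun P => ((red n P.asIdeal).restrictScalars O) ∘ₗ c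
      let T : MaximalSpectrum B → Submodule O M :=
        fun P => Submodule.comap (cP P) ((S P).restrictScalars O)
      have hT1 : ∀ P, maximalIdeal O • (⊤ : Submodule O M) ≤ T P := by
        intro P
        rw [Submodule.smul_le]
        intro r hr y _
        show cP P (r • y) ∈ S P
        have h0 : cP P (r • y) = 0 := by
          rw [map_smul]
          funext j
          show r • (cP P y j) = 0
          rw [Algebra.smul_def, IsScalarTower.algebraMap_apply O B (B ⧸ P.asIdeal),
            Ideal.Quotient.algebraMap_eq,
            Ideal.Quotient.eq_zero_iff_mem.mpr (hmP P (Ideal.mem_map_of_mem _ hr)), zero_mul]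
        rw [h0]
        exact (S P).zero_mem
      have hT2 : ∀ P, T P ≠ ⊤ := by
        intro P htop
        -- then the span of the image is contained in `S P`
        have h1 : Submodule.span (B ⧸ P.asIdeal)
            (Set.range (fun y => red n P.asIdeal (c y))) ≤ S P := by
          rw [Submodule.span_le]
          rintro _ ⟨y, rfl⟩
          have : y ∈ T P := by rw [htop]; exact Submodule.mem_top
          exact this
        have h2 : Submodule.span (B ⧸ P.asIdeal)
            (Set.range (fun y => red n P.asIdeal (c y))) = ⊤ := by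
          rw [eq_top_iff]
          intro v hv
          clear hv
          have hsurj : Function.Surjective (red n P.asIdeal) := by
            intro w
            choose f hf using fun j => Submodule.mkQ_surjective P.asIdeal (w j)
            exact ⟨f, funext hf⟩
          obtain ⟨w, rfl⟩ := hsurj v
          have hw : w ∈ Submodule.span B (Set.range c) := by rw [hspan]; exact Submodule.mem_top
          induction hw using Submodule.span_induction with
          | mem w hw =>
            obtain ⟨y, rfl⟩ := hw
            exact Submodule.subset_span ⟨y, rfl⟩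
          | zero => rw [map_zero]; exact Submodule.zero_mem _
          | add w₁ w₂ _ _ h₁ h₂ => rw [map_add]; exact Submodule.add_mem _ h₁ h₂
          | smul b w _ h =>
            rw [map_smul]
            have : b • (red n P.asIdeal w) = (Ideal.Quotient.mk P.asIdeal b) • (red n P.asIdeal w) := rfl
            rw [this]
            exact Submodule.smul_mem _ _ h
        have h3 : S P = ⊤ := top_le_iff.mp (h2 ▸ h1)
        have h4 : Module.finrank (B ⧸ P.asIdeal) (S P) ≤ i := by
          have := finrank_range_le_card (R := B ⧸ P.asIdeal)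
            (fun t => red n P.asIdeal (c (m t)))
          simpa [Set.finrank] using this
        rw [h3, finrank_top, Module.finrank_fin_fun] at h4
        omega
      obtain ⟨y, hy⟩ := exists_notMem_submodules T hT1 hT2
      refine ⟨Fin.snoc m y, fun P => ?_⟩
      have h5 : (fun t => red n P.asIdeal (c ((Fin.snoc m y : Fin (i + 1) → M) t))) =
          Fin.snoc (fun t => red n P.asIdeal (c (m t))) (red n P.asIdeal (c y)) := by
        funext t
        refine Fin.lastCases ?_ (fun t' => ?_) t
        · simp
        · simp
      rw [h5]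
      exact (hm P).finSnoc (hy P)
  obtain ⟨m, hm⟩ := key n le_rfl
  refine ⟨m, ?_⟩
  set A : Matrix (Fin n) (Fin n) B := Matrix.of (fun t => c (m t)) with hA
  by_contra hnu
  obtain ⟨I, hImax, hAI⟩ := exists_max_ideal_of_mem_nonunits hnu
  let P : MaximalSpectrum B := ⟨I, hImax⟩
  have h1 : LinearIndependent (B ⧸ I) ((Ideal.Quotient.mk I).mapMatrix A).row := by
    have : ((Ideal.Quotient.mk I).mapMatrix A).row =
        (fun t => red n P.asIdeal (c (m t))) := by
      funext t j
      rfl
    rw [this]
    exact hm P
  have h2 : IsUnit ((Ideal.Quotient.mk I).mapMatrix A) :=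
    Matrix.linearIndependent_rows_iff_isUnit.mp h1
  have h3 : IsUnit ((Ideal.Quotient.mk I).mapMatrix A).det :=
    (Matrix.isUnit_iff_isUnit_det _).mp h2
  rw [← RingHom.map_det] at h3
  have h4 : Ideal.Quotient.mk I A.det = 0 := Ideal.Quotient.eq_zero_iff_mem.mpr hAI
  rw [h4] at h3
  exact not_isUnit_zero h3

end GenPos

end Groth.Agent.Helper19.TFCurv
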