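import Mathlib

/-!
# Length lemmas: filtration additivity, Herbrand-type equality, generators bound

helper19, for S15011.
-/

namespace Groth.Agent.Helper19.TFCurv

open scoped Pointwise

universe u v

section Filtration

variable {O : Type u} [CommRing O] {N : Type v} [AddCommGroup N] [Module O N]

/-- `ℓ(N/A) = ℓ(N/B) + ℓ(B/A)` for `A ≤ B`. -/
theorem length_quot_eq_add (A B : Submodule O N) (hAB : A ≤ B) :
    Module.length O (N ⧸ A) =
      Module.length O (↥B ⧸ A.submoduleOf B) + Module.length O (N ⧸ B) := by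
  let f : (↥B ⧸ A.submoduleOf B) →ₗ[O] (N ⧸ A) :=
    Submodule.mapQ (A.submoduleOf B) A B.subtype (le_refl _)
  let g : (N ⧸ A) →ₗ[O] (N ⧸ B) := Submodule.mapQ A B LinearMap.id hAB
  have hf : Function.Injective f := by
    rw [← LinearMap.ker_eq_bot, LinearMap.ker_eq_bot']
    intro y hy
    obtain ⟨b, rfl⟩ := Submodule.Quotient.mk_surjective _ y
    have h1 : f (Submodule.Quotient.mk b) = Submodule.Quotient.mk (b : N) := rfl
    rw [h1, Submodule.Quotient.mk_eq_zero] at hy
    rw [Submodule.Quotient.mk_eq_zero]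
    exact hy
  have hg : Function.Surjective g := by
    intro y
    obtain ⟨n, rfl⟩ := Submodule.Quotient.mk_surjective _ y
    exact ⟨Submodule.Quotient.mk n, rfl⟩
  have H : Function.Exact f g := by
    intro y
    obtain ⟨n, rfl⟩ := Submodule.Quotient.mk_surjective _ y
    have h1 : g (Submodule.Quotient.mk n) = Submodule.Quotient.mk n := rfl
    rw [h1, Submodule.Quotient.mk_eq_zero]
    constructor
    · intro hn
      exact ⟨Submodule.Quotient.mk ⟨n, hn⟩, rfl⟩
    · rintro ⟨z, hz⟩
      obtain ⟨b, rfl⟩ := Submodule.Quotient.mk_surjective _ z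
      have h2 : f (Submodule.Quotient.mk b) = Submodule.Quotient.mk (b : N) := rfl
      rw [h2, Submodule.Quotient.eq] at hz
      have := B.sub_mem b.2 (hAB hz)
      simpa using this
  exact Module.length_eq_add_of_exact f g hf hg H

end Filtration

section Herbrand

variable {O : Type u} [CommRing O] {N : Type v} [AddCommGroup N] [Module O N]

lemma submoduleOf_smul (I : Ideal O) (A : Submodule O N) :
    (I • A).submoduleOf A = I • (⊤ : Submodule O ↥A) := by
  have h1 : Submodule.map A.subtype (I • (⊤ : Submodule O ↥A)) = I • A := by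
    rw [Submodule.map_smul'', Submodule.map_subtype_top]
  rw [Submodule.submoduleOf, ← h1,
    Submodule.comap_map_eq_of_injective (Submodule.injective_subtype A)]

/-- Herbrand-type equality: if `x` is regular on `N` and `N/A` has finite length,
then `ℓ(A/xA) = ℓ(N/xN)`. -/
theorem length_quot_smul_eq (x : O) (hx : IsSMulRegular N x) (A : Submodule O N)
    (hfin : Module.length O (N ⧸ A) ≠ ⊤) :
    Module.length O (↥A ⧸ (Ideal.span {x} • (⊤ : Submodule O ↥A))) =
      Module.length O (N ⧸ (Ideal.span {x} • (⊤ : Submodule O N))) := by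
  set I : Ideal O := Ideal.span {x} with hI
  set xN : Submodule O N := I • (⊤ : Submodule O N) with hxN
  set xA : Submodule O N := I • A with hxA
  have hxAA : xA ≤ A := Submodule.smul_le_right
  have hxAN : xA ≤ xN := Submodule.smul_mono le_rfl le_top
  have e1 := length_quot_eq_add xA A hxAA
  have e2 := length_quot_eq_add xA xN hxAN
  rw [hxA, submoduleOf_smul, ← hxA] at e1
  -- the iso `N/A ≃ xN/xA`
  have hxN' : xN = x • (⊤ : Submodule O N) := Submodule.ideal_span_singleton_smul x ⊤
  have hxA' : xA = x • A := Submodule.ideal_span_singleton_smul x A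
  let ψ₀ : N →ₗ[O] ↥xN := LinearMap.codRestrict xN (LinearMap.lsmul O N x) (fun n =>
    Submodule.smul_mem_smul (Ideal.mem_span_singleton_self x) Submodule.mem_top)
  let ψ : N →ₗ[O] (↥xN ⧸ xA.submoduleOf xN) := (xA.submoduleOf xN).mkQ ∘ₗ ψ₀
  have hψ : Function.Surjective ψ := by
    intro y
    obtain ⟨⟨z, hz⟩, rfl⟩ := Submodule.Quotient.mk_surjective _ y
    have hz' := hz
    rw [hxN', Submodule.mem_smul_pointwise_iff_exists] at hz'
    obtain ⟨n, -, hn⟩ := hz'
    refine ⟨n, ?_⟩
    have : ψ₀ n = ⟨z, hz⟩ := Subtype.ext hn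
    show (xA.submoduleOf xN).mkQ (ψ₀ n) = _
    rw [this]
    rfl
  have hker : LinearMap.ker ψ = A := by
    ext n
    rw [LinearMap.mem_ker]
    show (xA.submoduleOf xN).mkQ (ψ₀ n) = 0 ↔ _
    rw [Submodule.mkQ_apply, Submodule.Quotient.mk_eq_zero]
    show x • n ∈ xA ↔ _
    rw [hxA', Submodule.mem_smul_pointwise_iff_exists]
    constructor
    · rintro ⟨a, ha, hax⟩
      have := hx hax
      rwa [← this]
    · intro hn
      exact ⟨n, hn, rfl⟩
  have e3 : Module.length O (N ⧸ A) = Module.length O (↥xN ⧸ xA.submoduleOf xN) := by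
    have e := (Submodule.quotEquivOfEq _ _ hker).symm.trans
      (LinearMap.quotKerEquivOfSurjective ψ hψ)
    exact e.length_eq
  rw [e1, ← e3] at e2
  -- cancel
  have h4 : Module.length O (↥A ⧸ (I • (⊤ : Submodule O ↥A))) + Module.length O (N ⧸ A) =
      Module.length O (N ⧸ xN) + Module.length O (N ⧸ A) := by
    rw [e2, add_comm]
  exact ENat.add_left_injective_of_ne_top hfin h4

end Herbrand

section Generators

variable {O : Type u} [CommRing O] [IsLocalRing O] {M : Type v} [AddCommGroup M] [Module O M]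
  [Module.Finite O M]

/-- Number of generators is at most `ℓ(M/xM)` for `x` in the maximal ideal. -/
theorem spanFinrank_le_length_quot (x : O) (hx : x ∈ IsLocalRing.maximalIdeal O) :
    ((⊤ : Submodule O M).spanFinrank : ℕ∞) ≤
      Module.length O (M ⧸ (Ideal.span {x} • (⊤ : Submodule O M))) := by
  have hfg : (⊤ : Submodule O M).FG := Module.Finite.fg_top
  rw [IsLocalRing.spanFinrank_eq_finrank_quotient (⊤ : Submodule O M) hfg]
  haveI : Module.Finite O ↥(⊤ : Submodule O M) := Module.Finite.iff_fg.mpr hfg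
  haveI : Module.Finite (O ⧸ IsLocalRing.maximalIdeal O)
      (↥(⊤ : Submodule O M) ⧸ (IsLocalRing.maximalIdeal O • (⊤ : Submodule O ↥(⊤ : Submodule O M)))) :=
    Module.Finite.of_restrictScalars_finite O _ _
  letI : Field (O ⧸ IsLocalRing.maximalIdeal O) := Ideal.Quotient.field _
  have h1 := Module.length_eq_finrank (O ⧸ IsLocalRing.maximalIdeal O)
    (↥(⊤ : Submodule O M) ⧸ (IsLocalRing.maximalIdeal O • (⊤ : Submodule O ↥(⊤ : Submodule O M))))
  have h2 := Module.length_eq_of_surjective (S := O) (R := O ⧸ IsLocalRing.maximalIdeal O)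
    (M := (↥(⊤ : Submodule O M) ⧸ (IsLocalRing.maximalIdeal O • (⊤ : Submodule O ↥(⊤ : Submodule O M)))))
    Ideal.Quotient.mk_surjective
  refine le_trans (le_of_eq (h1.symm.trans h2.symm)) ?_
  -- surjection
  set m := IsLocalRing.maximalIdeal O with hm
  set T : Submodule O M := ⊤ with hT
  let e : M ≃ₗ[O] ↥T := (Submodule.topEquiv (R := O) (M := M)).symm
  let φ : M →ₗ[O] (↥T ⧸ (m • (⊤ : Submodule O ↥T))) :=
    (m • (⊤ : Submodule O ↥T)).mkQ ∘ₗ e.toLinearMap
  have hle : Ideal.span {x} • (⊤ : Submodule O M) ≤ LinearMap.ker φ := by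
    rw [Submodule.smul_le]
    intro r hr n _
    rw [LinearMap.mem_ker, map_smul]
    have hr' : r ∈ m := ((Ideal.span_singleton_le_iff_mem (I := m)).mpr hx) hr
    show (m • (⊤ : Submodule O ↥T)).mkQ (r • e n) = 0
    rw [Submodule.mkQ_apply, Submodule.Quotient.mk_eq_zero]
    exact Submodule.smul_mem_smul hr' Submodule.mem_top
  let φ' : (M ⧸ (Ideal.span {x} • (⊤ : Submodule O M))) →ₗ[O] (↥T ⧸ (m • (⊤ : Submodule O ↥T))) :=
    Submodule.liftQ _ φ hle
  have hφ' : Function.Surjective φ' := by
    intro y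
    obtain ⟨z, rfl⟩ := Submodule.Quotient.mk_surjective _ y
    exact ⟨Submodule.Quotient.mk (e.symm z), by simp [φ', φ]⟩
  exact Module.length_le_of_surjective φ' hφ'

end Generators

end Groth.Agent.Helper19.TFCurv
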