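import Mathlib

/-!
# Lengths of `A/IA` under isomorphisms and products; finite colength of lattices

helper19, for S15011.
-/

namespace Groth.Agent.Helper19.TFCurv

open scoped TensorProduct

universe u v w

section QLen

variable {O : Type u} [CommRing O] (I : Ideal O)

theorem qlen_congr {A : Type v} {A' : Type w} [AddCommGroup A] [Module O A] [AddCommGroup A']
    [Module O A'] (e : A ≃ₗ[O] A') :
    Module.length O (A ⧸ (I • (⊤ : Submodule O A))) =
      Module.length O (A' ⧸ (I • (⊤ : Submodule O A'))) := by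
  have e1 := (TensorProduct.quotTensorEquivQuotSMul A I).symm
  have e2 := TensorProduct.quotTensorEquivQuotSMul A' I
  have e3 : ((O ⧸ I) ⊗[O] A) ≃ₗ[O] ((O ⧸ I) ⊗[O] A') := LinearEquiv.lTensor (O ⧸ I) e
  exact ((e1.trans e3).trans e2).length_eq

theorem qlen_pi (n : ℕ) (B : Type v) [AddCommGroup B] [Module O B] :
    Module.length O ((Fin n → B) ⧸ (I • (⊤ : Submodule O (Fin n → B)))) =
      (n : ℕ∞) * Module.length O (B ⧸ (I • (⊤ : Submodule O B))) := by
  have e1 := (TensorProduct.quotTensorEquivQuotSMul (Fin n → B) I).symm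
  have e2 : ((O ⧸ I) ⊗[O] (Fin n → B)) ≃ₗ[O] (Fin n → (O ⧸ I) ⊗[O] B) :=
    TensorProduct.piRight O O (O ⧸ I) (fun _ : Fin n => B)
  have e3 : (Fin n → (O ⧸ I) ⊗[O] B) ≃ₗ[O] (Fin n → B ⧸ (I • (⊤ : Submodule O B))) :=
    LinearEquiv.piCongrRight (fun _ => TensorProduct.quotTensorEquivQuotSMul B I)
  rw [((e1.trans e2).trans e3).length_eq, Module.length_pi_of_fintype]
  simp

end QLen

section FiniteColength

variable {O : Type u} [CommRing O] [IsDomain O] {K : Type u} [Field K] [Algebra O K]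
  [IsFractionRing O K] {V : Type v} [AddCommGroup V] [Module O V] [Module K V]
  [IsScalarTower O K V]

theorem exists_smul_mem_of_span_eq_top (M₁ : Submodule O V)
    (hspan : Submodule.span K (M₁ : Set V) = ⊤) (v : V) :
    ∃ d ∈ nonZeroDivisors O, d • v ∈ M₁ := by
  have hv : v ∈ Submodule.span K (M₁ : Set V) := by rw [hspan]; exact Submodule.mem_top
  induction hv using Submodule.span_induction with
  | mem m hm => exact ⟨1, Submonoid.one_mem _, by rwa [one_smul]⟩
  | zero => exact ⟨1, Submonoid.one_mem _, by rw [smul_zero]; exact M₁.zero_mem⟩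
  | add v₁ v₂ _ _ h₁ h₂ =>
    obtain ⟨d₁, hd₁, h₁⟩ := h₁
    obtain ⟨d₂, hd₂, h₂⟩ := h₂
    refine ⟨d₁ * d₂, Submonoid.mul_mem _ hd₁ hd₂, ?_⟩
    rw [smul_add]
    refine M₁.add_mem ?_ ?_
    · rw [mul_comm, mul_smul]; exact M₁.smul_mem _ h₁
    · rw [mul_smul]; exact M₁.smul_mem _ h₂
  | smul c v _ h =>
    obtain ⟨d, hd, h⟩ := h
    obtain ⟨a, b, hb, rfl⟩ := IsFractionRing.div_surjective (A := O) c
    refine ⟨b * d, Submonoid.mul_mem _ hb hd, ?_⟩
    have hb0 : algebraMap O K b ≠ 0 := IsFractionRing.to_map_ne_zero_of_mem_nonZeroDivisors hb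
    have h1 : b • ((algebraMap O K a / algebraMap O K b) • v) = a • v := by
      rw [← IsScalarTower.algebraMap_smul K b, smul_smul, mul_div_cancel₀ _ hb0,
        IsScalarTower.algebraMap_smul]
    have h2 : (b * d) • ((algebraMap O K a / algebraMap O K b) • v) = a • (d • v) := by
      rw [mul_comm, mul_smul, h1, smul_comm]
    rw [h2]
    exact M₁.smul_mem _ h

theorem exists_smul_le_of_fg (M₁ N₁ : Submodule O V)
    (hspan : Submodule.span K (M₁ : Set V) = ⊤) (hfg : N₁.FG) :
    ∃ d ∈ nonZeroDivisors O, ∀ v ∈ N₁, d • v ∈ M₁ := by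
  classical
  obtain ⟨S, rfl⟩ := hfg
  choose dd hdd hdd' using exists_smul_mem_of_span_eq_top M₁ hspan
  refine ⟨∏ s ∈ S, dd s, Submonoid.prod_mem _ (fun s _ => hdd s), ?_⟩
  intro v hv
  induction hv using Submodule.span_induction with
  | mem s hs =>
    obtain ⟨c, hc⟩ := Finset.dvd_prod_of_mem dd hs
    rw [hc, mul_comm, mul_smul]
    exact M₁.smul_mem _ (hdd' s)
  | zero => rw [smul_zero]; exact M₁.zero_mem
  | add v₁ v₂ _ _ h₁ h₂ => rw [smul_add]; exact M₁.add_mem h₁ h₂
  | smul c v _ h => rw [smul_comm]; exact M₁.smul_mem _ h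

theorem length_ne_top_of_smul_eq_zero [IsNoetherianRing O] [Ring.KrullDimLE 1 O]
    (d : O) (hd : d ∈ nonZeroDivisors O) (Q : Type v) [AddCommGroup Q] [Module O Q]
    [Module.Finite O Q] (hQ : ∀ q : Q, d • q = 0) : Module.length O Q ≠ ⊤ := by
  have htor : Module.IsTorsionBySet O Q (Ideal.span {d} : Set O) :=
    (Module.isTorsionBySet_span_singleton_iff d).mpr (fun q => hQ q)
  letI := htor.module
  haveI : IsScalarTower O (O ⧸ Ideal.span {d}) Q := htor.isScalarTower
  haveI : Module.Finite (O ⧸ Ideal.span {d}) Q := Module.Finite.of_restrictScalars_finite O _ _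
  haveI : IsArtinianRing (O ⧸ Ideal.span {d}) := by
    rw [isArtinianRing_iff_krullDimLE_zero, Ring.KrullDimLE, Order.krullDimLE_iff,
      ← ENat.WithBot.add_le_add_one_right_iff, Nat.cast_zero, zero_add]
    exact (ringKrullDim_quotient_succ_le_of_nonZeroDivisor hd).trans
      (Order.KrullDimLE.krullDim_le)
  rw [Module.length_eq_of_surjective (S := O) (R := O ⧸ Ideal.span {d})
    Ideal.Quotient.mk_surjective]
  exact Module.length_ne_top

theorem length_quot_ne_top [IsNoetherianRing O] [Ring.KrullDimLE 1 O] (M₁ N₁ : Submodule O V)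
    (hspan : Submodule.span K (M₁ : Set V) = ⊤) (hfg : N₁.FG) :
    Module.length O (↥N₁ ⧸ M₁.submoduleOf N₁) ≠ ⊤ := by
  obtain ⟨d, hd, hdv⟩ := exists_smul_le_of_fg M₁ N₁ hspan hfg
  haveI : Module.Finite O ↥N₁ := Module.Finite.iff_fg.mpr hfg
  refine length_ne_top_of_smul_eq_zero d hd _ ?_
  intro q
  obtain ⟨⟨v, hv⟩, rfl⟩ := Submodule.Quotient.mk_surjective _ q
  rw [← Submodule.Quotient.mk_smul, Submodule.Quotient.mk_eq_zero]
  exact hdv v hv

end FiniteColength

end Groth.Agent.Helper19.TFCurv
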