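import Mathlib

/-!
# The normalization of a one-dimensional local domain: semilocal PID, principal reduction of `m`

helper19, for S15011 / S15009.
-/

namespace Groth.Agent.Helper19.TFCurv

open IsLocalRing

universe u

section Avoid

variable {O : Type u} [CommRing O] [IsLocalRing O] [Infinite (ResidueField O)]

/-- Avoidance over an infinite residue field. -/
theorem exists_mem_maximalIdeal_notMem {ι : Type*} [Finite ι] (W : ι → Ideal O)
    (hW1 : ∀ i, maximalIdeal O ^ 2 ≤ W i) (hW2 : ∀ i, ¬ maximalIdeal O ≤ W i) :
    ∃ x ∈ maximalIdeal O, ∀ i, x ∉ W i := by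
  by_contra hcon
  push Not at hcon
  let U : ι → Submodule (ResidueField O) (CotangentSpace O) := fun i =>
    { carrier := {v | ∃ y : maximalIdeal O, (y : O) ∈ W i ∧ (maximalIdeal O).toCotangent y = v}
      add_mem' := by
        rintro _ _ ⟨y₁, h₁, rfl⟩ ⟨y₂, h₂, rfl⟩
        exact ⟨y₁ + y₂, (W i).add_mem h₁ h₂, map_add _ _ _⟩
      zero_mem' := ⟨0, (W i).zero_mem, map_zero _⟩
      smul_mem' := by
        rintro c _ ⟨y, hy, rfl⟩
        obtain ⟨r, rfl⟩ := IsLocalRing.residue_surjective c
        refine ⟨r • y, ?_, ?_⟩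
        · show r • (y : O) ∈ W i
          exact (W i).mul_mem_left r hy
        · rw [map_smul]
          exact (IsScalarTower.algebraMap_smul (ResidueField O) r
            ((maximalIdeal O).toCotangent y)).symm }
  have hcover : ⋃ i, (U i : Set (CotangentSpace O)) = Set.univ := by
    rw [Set.eq_univ_iff_forall]
    intro v
    obtain ⟨y, rfl⟩ := (maximalIdeal O).toCotangent_surjective v
    obtain ⟨i, hi⟩ := hcon y y.2
    exact Set.mem_iUnion.mpr ⟨i, ⟨y, hi, rfl⟩⟩
  obtain ⟨i, hi⟩ := Subspace.exists_eq_top_of_iUnion_eq_univ hcover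
  apply hW2 i
  intro y hy
  have : (maximalIdeal O).toCotangent ⟨y, hy⟩ ∈ U i := by rw [hi]; exact Submodule.mem_top
  obtain ⟨y', hy', heq⟩ := this
  rw [Ideal.toCotangent_eq] at heq
  have h2 : ((y' : O) - y) ∈ W i := hW1 i heq
  have : y = (y' : O) - ((y' : O) - y) := by ring
  rw [this]
  exact (W i).sub_mem hy' h2

end Avoid

section Normalization

variable (O : Type u) [CommRing O] [IsDomain O] [IsNoetherianRing O] [IsLocalRing O]
  (K : Type u) [Field K] [Algebra O K] [IsFractionRing O K]

theorem dimensionLEOne_of_dim (hdim : ringKrullDim O = 1) : Ring.DimensionLEOne O := by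
  haveI : Ring.KrullDimLE 1 O := Ring.krullDimLE_iff.mpr (by rw [hdim]; rfl)
  haveI : (⊥ : Ideal O).IsPrime := Ideal.isPrime_bot
  exact ⟨fun {p} hp hpp => Ring.krullDimLE_one_iff_of_isPrime_bot.mp inferInstance p hp hpp⟩

theorem maximalIdeal_ne_bot_of_dim (hdim : ringKrullDim O = 1) : maximalIdeal O ≠ ⊥ := by
  intro h
  have hf : IsField O := IsLocalRing.isField_iff_maximalIdeal_eq.mpr h
  have := ringKrullDim_eq_zero_of_isField hf
  rw [hdim] at this
  exact one_ne_zero this

theorem isDedekindDomain_integralClosure (hdim : ringKrullDim O = 1)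
    (hfin : Module.Finite O ↥(integralClosure O K)) :
    IsDedekindDomain ↥(integralClosure O K) := by
  haveI := dimensionLEOne_of_dim O hdim
  haveI : IsNoetherianRing ↥(integralClosure O K) :=
    Algebra.FiniteType.isNoetherianRing O ↥(integralClosure O K)
  haveI : IsIntegrallyClosed ↥(integralClosure O K) :=
    integralClosure.isIntegrallyClosedOfFiniteExtension (R := O) K (L := K)
  haveI : Ring.DimensionLEOne ↥(integralClosure O K) := inferInstance
  exact { }

theorem algebraMap_integralClosure_injective :
    Function.Injective (algebraMap O ↥(integralClosure O K)) := by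
  intro a b hab
  apply IsFractionRing.injective O K
  have := congrArg (algebraMap ↥(integralClosure O K) K) hab
  rwa [← IsScalarTower.algebraMap_apply, ← IsScalarTower.algebraMap_apply] at this

theorem finite_primes_integralClosure (hdim : ringKrullDim O = 1)
    (hfin : Module.Finite O ↥(integralClosure O K)) :
    {P : Ideal ↥(integralClosure O K) | P.IsPrime}.Finite := by
  haveI := dimensionLEOne_of_dim O hdim
  haveI := isDedekindDomain_integralClosure O K hdim hfin
  have h1 : ((maximalIdeal O).primesOver ↥(integralClosure O K)).Finite :=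
    Algebra.QuasiFinite.finite_primesOver (maximalIdeal O)
  refine (h1.insert ⊥).subset ?_
  intro P hP
  have hP' : P.IsPrime := hP
  by_cases hb : P = ⊥
  · exact Set.mem_insert_iff.mpr (Or.inl hb)
  · refine Set.mem_insert_iff.mpr (Or.inr ⟨hP', ⟨?_⟩⟩)
    have hmax : P.IsMaximal := hP'.isMaximal hb
    have : (P.comap (algebraMap O ↥(integralClosure O K))).IsMaximal :=
      Ideal.isMaximal_comap_of_isIntegral_of_isMaximal P
    exact (IsLocalRing.eq_maximalIdeal this).symm

theorem isPrincipalIdealRing_integralClosure (hdim : ringKrullDim O = 1)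
    (hfin : Module.Finite O ↥(integralClosure O K)) :
    IsPrincipalIdealRing ↥(integralClosure O K) := by
  haveI := isDedekindDomain_integralClosure O K hdim hfin
  exact IsPrincipalIdealRing.of_finite_primes (finite_primes_integralClosure O K hdim hfin)

/-- Principal reduction of the maximal ideal in the normalization. -/
theorem exists_principal_reduction (hdim : ringKrullDim O = 1)
    (hfin : Module.Finite O ↥(integralClosure O K)) [Infinite (ResidueField O)] :
    ∃ x ∈ maximalIdeal O, x ≠ 0 ∧
      (Ideal.span {x} : Ideal O) • (⊤ : Submodule O ↥(integralClosure O K)) =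
        maximalIdeal O • (⊤ : Submodule O ↥(integralClosure O K)) := by
  classical
  haveI := dimensionLEOne_of_dim O hdim
  haveI := isDedekindDomain_integralClosure O K hdim hfin
  set B := ↥(integralClosure O K) with hB
  set m := maximalIdeal O with hm
  set J : Ideal B := m.map (algebraMap O B) with hJ
  have hinj : Function.Injective (algebraMap O B) := algebraMap_integralClosure_injective O K
  have hJ0 : J ≠ ⊥ := by
    rw [hJ, Ne, Ideal.map_eq_bot_iff_of_injective hinj]
    exact maximalIdeal_ne_bot_of_dim O hdim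
  have h𝒫 : (m.primesOver B).Finite := Algebra.QuasiFinite.finite_primesOver m
  haveI : Finite ↥(m.primesOver B) := h𝒫.to_subtype
  let W : ↥(m.primesOver B) → Ideal O := fun P => (J * P.1).comap (algebraMap O B) ⊓ m
  have hover : ∀ P : ↥(m.primesOver B), m ≤ P.1.comap (algebraMap O B) := by
    intro P
    have := P.2.2.over
    exact le_of_eq this
  have hJP : ∀ P : ↥(m.primesOver B), J ≤ P.1 := by
    intro P
    rw [hJ, Ideal.map_le_iff_le_comap]
    exact hover P
  have hW1 : ∀ P, m ^ 2 ≤ W P := by
    intro P
    refine le_inf ?_ (Ideal.pow_le_self two_ne_zero)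
    rw [← Ideal.map_le_iff_le_comap, Ideal.map_pow, pow_two]
    exact Ideal.mul_mono_right (hJP P)
  have hW2 : ∀ P, ¬ m ≤ W P := by
    intro P hle
    have h1 : m ≤ (J * P.1).comap (algebraMap O B) := hle.trans inf_le_left
    rw [← Ideal.map_le_iff_le_comap] at h1
    have h2 : J * P.1 = J := le_antisymm Ideal.mul_le_left h1
    have h3 : P.1 = 1 := by
      rcases mul_right_eq_self₀.mp h2 with h | h
      · exact h
      · exact absurd h hJ0
    exact P.2.1.ne_top (by rw [h3, Ideal.one_eq_top])
  obtain ⟨x, hxm, hxW⟩ := exists_mem_maximalIdeal_notMem W hW1 hW2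
  -- the ideal generated by `x` in `B` is `J`
  have hxJ : Ideal.span {algebraMap O B x} = J := by
    have hle : Ideal.span {algebraMap O B x} ≤ J := by
      rw [Ideal.span_singleton_le_iff_mem]
      exact Ideal.mem_map_of_mem _ hxm
    obtain ⟨I', hI'⟩ := Ideal.dvd_iff_le.mpr hle
    by_cases htop : I' = ⊤
    · rw [hI', htop, Ideal.mul_top]
    · exfalso
      obtain ⟨P, hPmax, hIP⟩ := Ideal.exists_le_maximal I' htop
      haveI := hPmax
      have hcm : (P.comap (algebraMap O B)).IsMaximal :=
        Ideal.isMaximal_comap_of_isIntegral_of_isMaximal P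
      let P' : ↥(m.primesOver B) :=
        ⟨P, hPmax.isPrime, ⟨(IsLocalRing.eq_maximalIdeal hcm).symm⟩⟩
      apply hxW P'
      refine ⟨?_, hxm⟩
      show algebraMap O B x ∈ J * P
      have : Ideal.span {algebraMap O B x} ≤ J * P := by
        rw [hI']
        exact Ideal.mul_mono_right hIP
      exact this (Ideal.mem_span_singleton_self _)
  have hx0 : x ≠ 0 := by
    rintro rfl
    rw [map_zero] at hxJ
    apply hJ0
    rw [← hxJ]
    exact Ideal.span_singleton_eq_bot.mpr rfl
  refine ⟨x, hxm, hx0, ?_⟩
  rw [Ideal.smul_top_eq_map, Ideal.smul_top_eq_map, Ideal.map_span, Set.image_singleton, hxJ]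

end Normalization

end Groth.Agent.Helper19.TFCurv
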