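import Mathlib
import Groth.Agent.Lib.Helper19.TFCurv.Herbrand
import Groth.Agent.Lib.Helper19.TFCurv.Normalization
import Groth.Agent.Lib.Helper19.TFCurv.Lattice

/-!
# `μ(M) ≤ rank(M) · e` for torsion-free modules over one-dimensional local domains

helper19, for S15011.
-/

namespace Groth.Agent.Helper19.TFCurv

open scoped TensorProduct
open IsLocalRing

universe u

section Setup

variable (O : Type u) [CommRing O] [IsDomain O]
  (K : Type u) [Field K] [Algebra O K] [IsFractionRing O K]
  (M : Type u) [AddCommGroup M] [Module O M]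

/-- `m ↦ 1 ⊗ m`. -/
noncomputable abbrev iota : M →ₗ[O] K ⊗[O] M := TensorProduct.mk O K M 1

theorem iota_injective [NoZeroSMulDivisors O M] : Function.Injective (iota O K M) := by
  haveI : IsLocalizedModule (nonZeroDivisors O) (iota O K M) :=
    (isLocalizedModule_iff_isBaseChange (nonZeroDivisors O) K (iota O K M)).mpr
      (TensorProduct.isBaseChange O M K)
  rw [← LinearMap.ker_eq_bot, LinearMap.ker_eq_bot']
  intro m hm
  obtain ⟨c, hc⟩ := (IsLocalizedModule.eq_zero_iff (nonZeroDivisors O) (iota O K M)).mp hm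
  rcases smul_eq_zero.mp hc with h | h
  · exact absurd h (nonZeroDivisors.coe_ne_zero c)
  · exact h

theorem span_range_iota : Submodule.span K (LinearMap.range (iota O K M) : Set (K ⊗[O] M)) = ⊤ := by
  rw [eq_top_iff]
  intro v _
  induction v using TensorProduct.induction_on with
  | zero => exact Submodule.zero_mem _
  | add v₁ v₂ h₁ h₂ => exact Submodule.add_mem _ (h₁ Submodule.mem_top) (h₂ Submodule.mem_top)
  | tmul c m =>
    have : c ⊗ₜ[O] m = c • ((1 : K) ⊗ₜ[O] m) := by
      rw [TensorProduct.smul_tmul', smul_eq_mul, mul_one]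
    rw [this]
    exact Submodule.smul_mem _ _ (Submodule.subset_span ⟨m, rfl⟩)

end Setup

section Abstract

variable (O : Type u) [CommRing O] [IsDomain O] [IsNoetherianRing O] [IsLocalRing O]
  (K : Type u) [Field K] [Algebra O K] [IsFractionRing O K]
  {M : Type u} [AddCommGroup M] [Module O M] [Module.Finite O M]
  {V : Type u} [AddCommGroup V] [Module O V] [Module K V] [IsScalarTower O K V]
  (ι : M →ₗ[O] V)

omit [IsDomain O] [IsNoetherianRing O] [IsLocalRing O] [IsFractionRing O K] in
instance instTowerOBV : IsScalarTower O ↥(integralClosure O K) V :=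
  IsScalarTower.of_algebraMap_smul (fun r v => by
    show ((algebraMap O ↥(integralClosure O K) r : ↥(integralClosure O K)) : K) • v = r • v
    rw [← IsScalarTower.algebraMap_smul K r v]
    rfl)

/-- The `B`-span of `M` in `V`. -/
noncomputable def Nspan : Submodule ↥(integralClosure O K) V :=
  Submodule.span ↥(integralClosure O K) (LinearMap.range ι : Set V)

theorem range_le_Nspan : LinearMap.range ι ≤ (Nspan O K ι).restrictScalars O := by
  intro v hv
  exact Submodule.subset_span hv

theorem Nspan_fg : (Nspan O K ι).FG := by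
  have h1 : (LinearMap.range ι).FG := by
    rw [LinearMap.range_eq_map]
    exact Submodule.FG.map _ Module.Finite.fg_top
  obtain ⟨S, hS⟩ := h1
  refine ⟨S, ?_⟩
  rw [Nspan, ← hS, Submodule.span_span_of_tower]

theorem Nspan_isLattice (hspan : Submodule.span K (LinearMap.range ι : Set V) = ⊤) :
    Submodule.IsLattice K (Nspan O K ι) where
  fg := Nspan_fg O K ι
  span_eq_top := by
    rw [eq_top_iff, ← hspan]
    exact Submodule.span_mono (fun v hv => Submodule.subset_span hv)

/-- The `B`-span of `M` is free of rank `n`. -/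
theorem exists_Nspan_equiv (hspan : Submodule.span K (LinearMap.range ι : Set V) = ⊤)
    (hdim : ringKrullDim O = 1)
    (hfin : Module.Finite O ↥(integralClosure O K)) (n : ℕ)
    (hn : Module.finrank K V = n) :
    Nonempty (↥(Nspan O K ι) ≃ₗ[↥(integralClosure O K)] (Fin n → ↥(integralClosure O K))) := by
  haveI := isDedekindDomain_integralClosure O K hdim hfin
  haveI := isPrincipalIdealRing_integralClosure O K hdim hfin
  haveI : IsFractionRing ↥(integralClosure O K) K :=
    integralClosure.isFractionRing_of_finite_extension K K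
  haveI := Nspan_isLattice O K ι hspan
  haveI : Module.Free ↥(integralClosure O K) ↥(Nspan O K ι) :=
    Submodule.IsLattice.free K (Nspan O K ι)
  haveI : Module.Finite ↥(integralClosure O K) ↥(Nspan O K ι) :=
    Submodule.IsLattice.finite K (Nspan O K ι)
  have hrank := Submodule.IsLattice.rank' K (Nspan O K ι)
  have hfr : Module.finrank ↥(integralClosure O K) ↥(Nspan O K ι) = n := by
    rw [← hn, Module.finrank, Module.finrank, hrank]
  have b := Module.finBasisOfFinrankEq ↥(integralClosure O K) ↥(Nspan O K ι) hfr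
  exact ⟨b.equivFun⟩

/-- Comparison of `ℓ(M₁/xM₁)` and `ℓ(N₁/xN₁)` for lattices `M₁ ≤ N₁`. -/
theorem qlen_eq_of_le [Ring.KrullDimLE 1 O] (x : O) (hx0 : x ≠ 0) (M₁ N₁ : Submodule O V)
    (hle : M₁ ≤ N₁) (hspan : Submodule.span K (M₁ : Set V) = ⊤) (hfg : N₁.FG) :
    Module.length O (↥M₁ ⧸ (Ideal.span {x} • (⊤ : Submodule O ↥M₁))) =
      Module.length O (↥N₁ ⧸ (Ideal.span {x} • (⊤ : Submodule O ↥N₁))) := by
  have hxK : algebraMap O K x ≠ 0 := by
    rw [Ne, map_eq_zero_iff _ (IsFractionRing.injective O K)]
    exact hx0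
  have hreg : IsSMulRegular ↥N₁ x := by
    intro v w hvw
    apply Subtype.ext
    have h1 : x • (v : V) = x • (w : V) := congrArg Subtype.val hvw
    rw [← IsScalarTower.algebraMap_smul K x, ← IsScalarTower.algebraMap_smul K x] at h1
    exact smul_right_injective _ hxK h1
  have hcolen := length_quot_ne_top M₁ N₁ hspan hfg
  have herb := length_quot_smul_eq x hreg (M₁.submoduleOf N₁) hcolen
  rw [← herb]
  exact (qlen_congr (Ideal.span {x}) (Submodule.submoduleOfEquivOfLe hle)).symm

theorem main_abstract (hι : Function.Injective ι)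
    (hspan : Submodule.span K (LinearMap.range ι : Set V) = ⊤)
    (hdim : ringKrullDim O = 1) [Infinite (ResidueField O)]
    (hfin : Module.Finite O ↥(integralClosure O K)) (n : ℕ)
    (hn : Module.finrank K V = n) :
    ((⊤ : Submodule O M).spanFinrank : ℕ∞) ≤ (n : ℕ∞) *
      Module.length O (↥(integralClosure O K) ⧸
        (maximalIdeal O) • (⊤ : Submodule O ↥(integralClosure O K))) := by
  haveI : Ring.KrullDimLE 1 O := Ring.krullDimLE_iff.mpr (by rw [hdim]; rfl)
  obtain ⟨eN⟩ := exists_Nspan_equiv O K ι hspan hdim hfin n hn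
  obtain ⟨x, hxm, hx0, hxB⟩ := exists_principal_reduction O K hdim hfin
  have hle := range_le_Nspan O K ι
  -- N_O is finitely generated over O
  haveI : Module.Finite ↥(integralClosure O K) ↥(Nspan O K ι) :=
    Module.Finite.iff_fg.mpr (Nspan_fg O K ι)
  haveI : Module.Finite O ↥(integralClosure O K) := hfin
  haveI : Module.Finite O ↥(Nspan O K ι) :=
    Module.Finite.trans ↥(integralClosure O K) ↥(Nspan O K ι)
  let eNO : ↥((Nspan O K ι).restrictScalars O) ≃ₗ[O] ↥(Nspan O K ι) :=
    (Submodule.restrictScalarsEquiv O ↥(integralClosure O K) V (Nspan O K ι)).restrictScalars O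
  haveI : Module.Finite O ↥((Nspan O K ι).restrictScalars O) := Module.Finite.equiv eNO.symm
  have hNfg : ((Nspan O K ι).restrictScalars O).FG := Module.Finite.iff_fg.mp inferInstance
  have h0 := qlen_eq_of_le O K x hx0 (LinearMap.range ι) ((Nspan O K ι).restrictScalars O)
    hle hspan hNfg
  have h1 := qlen_congr (Ideal.span {x}) (LinearEquiv.ofInjective ι hι)
  have h2 := qlen_congr (Ideal.span {x}) (eNO.trans (eN.restrictScalars O))
  have h3 := qlen_pi (Ideal.span {x}) n ↥(integralClosure O K)
  have h4 := spanFinrank_le_length_quot (M := M) x hxm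
  rw [h1, h0, h2, h3, hxB] at h4
  exact h4

end Abstract

section Main

variable (O : Type u) [CommRing O] [IsDomain O] [IsNoetherianRing O] [IsLocalRing O]
  (K : Type u) [Field K] [Algebra O K] [IsFractionRing O K]
  (M : Type u) [AddCommGroup M] [Module O M] [Module.Finite O M]

theorem main [NoZeroSMulDivisors O M] (hdim : ringKrullDim O = 1)
    [Infinite (ResidueField O)]
    (hfin : Module.Finite O ↥(integralClosure O K)) (n : ℕ)
    (hn : Module.finrank K (K ⊗[O] M) = n) :
    ((⊤ : Submodule O M).spanFinrank : ℕ∞) ≤ (n : ℕ∞) *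
      Module.length O (↥(integralClosure O K) ⧸
        (maximalIdeal O) • (⊤ : Submodule O ↥(integralClosure O K))) :=
  main_abstract O K (iota O K M) (iota_injective O K M) (span_range_iota O K M) hdim hfin n hn

end Main

end Groth.Agent.Helper19.TFCurv
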