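import Mathlib
import Groth.Agent.Lib.Helper19.TFCurv.Main
import Groth.Agent.Lib.Helper19.TFCurv.GenPos

/-!
# A torsion-free module sits between `O^n` and `B^n`

helper19, for S15009.
-/

namespace Groth.Agent.Helper19.TFCurv

open scoped TensorProduct
open IsLocalRing Matrix

universe u

section Abstract

variable (O : Type u) [CommRing O] [IsDomain O] [IsNoetherianRing O] [IsLocalRing O]
  (K : Type u) [Field K] [Algebra O K] [IsFractionRing O K]
  {M : Type u} [AddCommGroup M] [Module O M] [Module.Finite O M]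
  {V : Type u} [AddCommGroup V] [Module O V] [Module K V] [IsScalarTower O K V]
  (ι : M →ₗ[O] V)

theorem finite_maximalSpectrum_integralClosure (hdim : ringKrullDim O = 1)
    (hfin : Module.Finite O ↥(integralClosure O K)) :
    Finite (MaximalSpectrum ↥(integralClosure O K)) := by
  have h := finite_primes_integralClosure O K hdim hfin
  haveI : Finite ↥{P : Ideal ↥(integralClosure O K) | P.IsPrime} := h.to_subtype
  let f : MaximalSpectrum ↥(integralClosure O K) →
      ↥{P : Ideal ↥(integralClosure O K) | P.IsPrime} :=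
    fun P => ⟨P.asIdeal, P.isMaximal.isPrime⟩
  refine Finite.of_injective f ?_
  intro P Q hPQ
  have : P.asIdeal = Q.asIdeal := congrArg Subtype.val hPQ
  exact MaximalSpectrum.ext this

/-- The coordinate map `M → B^n` obtained from a trivialization of the `B`-span. -/
theorem exists_coord (hι : Function.Injective ι)
    (hspan : Submodule.span K (LinearMap.range ι : Set V) = ⊤)
    (hdim : ringKrullDim O = 1)
    (hfin : Module.Finite O ↥(integralClosure O K)) (n : ℕ)
    (hn : Module.finrank K V = n) :
    ∃ c : M →ₗ[O] (Fin n → ↥(integralClosure O K)), Function.Injective c ∧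
      Submodule.span ↥(integralClosure O K) (Set.range c) = ⊤ := by
  obtain ⟨eN⟩ := exists_Nspan_equiv O K ι hspan hdim hfin n hn
  let ι' : M →ₗ[O] ↥((Nspan O K ι).restrictScalars O) :=
    LinearMap.codRestrict ((Nspan O K ι).restrictScalars O) ι
      (fun m => Submodule.subset_span ⟨m, rfl⟩)
  let eNO : ↥((Nspan O K ι).restrictScalars O) ≃ₗ[O] ↥(Nspan O K ι) :=
    (Submodule.restrictScalarsEquiv O ↥(integralClosure O K) V (Nspan O K ι)).restrictScalars O
  let c : M →ₗ[O] (Fin n → ↥(integralClosure O K)) :=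
    (eN.restrictScalars O).toLinearMap ∘ₗ eNO.toLinearMap ∘ₗ ι'
  have hcval : ∀ m, ((eN.symm (c m) : ↥(Nspan O K ι)) : V) = ι m := by
    intro m
    simp [c, ι', eNO]
  refine ⟨c, ?_, ?_⟩
  · intro a b hab
    apply hι
    rw [← hcval a, ← hcval b, hab]
  · -- span
    have h1 : Submodule.span ↥(integralClosure O K)
        (((↑) : ↥(Nspan O K ι) → V) ⁻¹' (LinearMap.range ι : Set V)) = ⊤ :=
      Submodule.span_span_coe_preimage
    have h2 : Set.range c = eN '' (((↑) : ↥(Nspan O K ι) → V) ⁻¹' (LinearMap.range ι : Set V)) := by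
      ext w
      constructor
      · rintro ⟨m, rfl⟩
        refine ⟨eN.symm (c m), ?_, by simp⟩
        show ((eN.symm (c m) : ↥(Nspan O K ι)) : V) ∈ LinearMap.range ι
        rw [hcval]
        exact ⟨m, rfl⟩
      · rintro ⟨z, ⟨m, hm⟩, rfl⟩
        refine ⟨m, ?_⟩
        apply eN.symm.injective
        apply Subtype.ext
        rw [hcval, hm]
        simp
    rw [h2]
    have h3 := Submodule.map_span eN.toLinearMap
      (((↑) : ↥(Nspan O K ι) → V) ⁻¹' (LinearMap.range ι : Set V))
    rw [h1, Submodule.map_top, LinearEquiv.range] at h3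
    exact h3.symm

theorem exists_lattice (hι : Function.Injective ι)
    (hspan : Submodule.span K (LinearMap.range ι : Set V) = ⊤)
    (hdim : ringKrullDim O = 1) [Infinite (ResidueField O)]
    (hfin : Module.Finite O ↥(integralClosure O K)) (n : ℕ)
    (hn : Module.finrank K V = n) :
    ∃ M' : Submodule O (Fin n → K),
      Submodule.pi Set.univ (fun _ : Fin n => (1 : Submodule O K)) ≤ M' ∧
      M' ≤ Submodule.pi Set.univ
        (fun _ : Fin n => (Subalgebra.toSubmodule (integralClosure O K))) ∧
      Nonempty (M ≃ₗ[O] ↥M') := by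
  classical
  obtain ⟨c, hcinj, hcspan⟩ := exists_coord O K ι hι hspan hdim hfin n hn
  haveI := finite_maximalSpectrum_integralClosure O K hdim hfin
  have hmP : ∀ P : MaximalSpectrum ↥(integralClosure O K),
      (maximalIdeal O).map (algebraMap O ↥(integralClosure O K)) ≤ P.asIdeal := by
    intro P
    rw [Ideal.map_le_iff_le_comap]
    haveI := P.isMaximal
    have hcm : (P.asIdeal.comap (algebraMap O ↥(integralClosure O K))).IsMaximal :=
      Ideal.isMaximal_comap_of_isIntegral_of_isMaximal P.asIdeal
    exact le_of_eq (IsLocalRing.eq_maximalIdeal hcm).symm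
  obtain ⟨mm, hdet⟩ := exists_isUnit_det n c hmP hcspan
  set A : Matrix (Fin n) (Fin n) ↥(integralClosure O K) := Matrix.of (fun t => c (mm t)) with hA
  let Ψ : (Fin n → ↥(integralClosure O K)) →ₗ[O] (Fin n → ↥(integralClosure O K)) :=
    (Matrix.vecMulLinear A⁻¹).restrictScalars O
  let coe : (Fin n → ↥(integralClosure O K)) →ₗ[O] (Fin n → K) :=
    ((integralClosure O K).val.toLinearMap).compLeft (Fin n)
  let emb : M →ₗ[O] (Fin n → K) := coe ∘ₗ Ψ ∘ₗ c
  have hΨinj : Function.Injective Ψ := by
    intro v w hvw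
    have h1 : v ᵥ* A⁻¹ = w ᵥ* A⁻¹ := hvw
    have h2 := congrArg (fun z => z ᵥ* A) h1
    simp only [Matrix.vecMul_vecMul, Matrix.nonsing_inv_mul A hdet, Matrix.vecMul_one] at h2
    exact h2
  have hcoeinj : Function.Injective coe := by
    intro v w hvw
    funext j
    have := congrFun hvw j
    exact Subtype.ext this
  have hembinj : Function.Injective emb := hcoeinj.comp (hΨinj.comp hcinj)
  have hΨmm : ∀ t, Ψ (c (mm t)) = Pi.single t 1 := by
    intro t
    have h1 : c (mm t) = (Pi.single t 1 : Fin n → ↥(integralClosure O K)) ᵥ* A := by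
      rw [Matrix.single_one_vecMul]
      rfl
    show (c (mm t)) ᵥ* A⁻¹ = _
    rw [h1, Matrix.vecMul_vecMul, Matrix.mul_nonsing_inv A hdet, Matrix.vecMul_one]
  have hembmm : ∀ t, emb (mm t) = Pi.single t 1 := by
    intro t
    show coe (Ψ (c (mm t))) = _
    rw [hΨmm]
    funext j
    show (((Pi.single t 1 : Fin n → ↥(integralClosure O K)) j : ↥(integralClosure O K)) : K) = _
    by_cases hjt : j = t
    · subst hjt
      simp
    · rw [Pi.single_eq_of_ne hjt, Pi.single_eq_of_ne hjt]
      rfl
  refine ⟨LinearMap.range emb, ?_, ?_, ⟨LinearEquiv.ofInjective emb hembinj⟩⟩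
  · intro v hv
    have hv' : ∀ j, v j ∈ (1 : Submodule O K) := fun j => hv j (Set.mem_univ j)
    choose r hr using fun j => Submodule.mem_one.mp (hv' j)
    refine ⟨∑ t, r t • mm t, ?_⟩
    rw [map_sum]
    funext j
    rw [Finset.sum_apply]
    simp only [map_smul, hembmm, Pi.smul_apply, Pi.single_apply]
    rw [Finset.sum_eq_single j]
    · rw [if_pos rfl, ← hr j, Algebra.smul_def, mul_one]
    · intro t _ htj
      rw [if_neg (Ne.symm htj), smul_zero]
    · intro h
      exact absurd (Finset.mem_univ j) h
  · rintro _ ⟨m, rfl⟩ j _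
    show emb m j ∈ Subalgebra.toSubmodule (integralClosure O K)
    rw [Subalgebra.mem_toSubmodule]
    exact ((Ψ (c m)) j).2

end Abstract

section Main

variable (O : Type u) [CommRing O] [IsDomain O] [IsNoetherianRing O] [IsLocalRing O]
  (K : Type u) [Field K] [Algebra O K] [IsFractionRing O K]
  (M : Type u) [AddCommGroup M] [Module O M] [Module.Finite O M]

theorem main_lattice [NoZeroSMulDivisors O M] (hdim : ringKrullDim O = 1)
    [Infinite (ResidueField O)]
    (hfin : Module.Finite O ↥(integralClosure O K)) (n : ℕ)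
    (hn : Module.finrank K (K ⊗[O] M) = n) :
    ∃ M' : Submodule O (Fin n → K),
      Submodule.pi Set.univ (fun _ : Fin n => (1 : Submodule O K)) ≤ M' ∧
      M' ≤ Submodule.pi Set.univ
        (fun _ : Fin n => (Subalgebra.toSubmodule (integralClosure O K))) ∧
      Nonempty (M ≃ₗ[O] ↥M') :=
  exists_lattice O K (iota O K M) (iota_injective O K M) (span_range_iota O K M) hdim hfin n hn

end Main

end Groth.Agent.Helper19.TFCurv
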