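import Mathlib
import Groth.Agent.Lib.Helper19.TFCurv.Main
import Groth.Agent.Lib.Helper19.TFCurv.Gaps

/-!
# Rank-one torsion-free modules over monomial curve singularities (helper19, for S15023)
-/

namespace Groth.Agent.Helper19.TFCurv

open scoped TensorProduct

universe u

section Embed

/-- A finitely generated torsion-free module of rank one over a domain embeds into the domain. -/
theorem exists_injective_to_self (O : Type u) [CommRing O] [IsDomain O] (F : Type u) [Field F]
    [Algebra O F] [IsFractionRing O F]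
    (M : Type u) [AddCommGroup M] [Module O M] [Module.Finite O M] [NoZeroSMulDivisors O M]
    (hrk : Module.finrank F (F ⊗[O] M) = 1) : ∃ j : M →ₗ[O] O, Function.Injective j := by
  classical
  have e : (F ⊗[O] M) ≃ₗ[F] F :=
    LinearEquiv.ofFinrankEq _ _ (by rw [hrk, Module.finrank_self])
  let j₀ : M →ₗ[O] F := (e.restrictScalars O).toLinearMap ∘ₗ iota O F M
  have hj₀ : Function.Injective j₀ := (e.injective).comp (iota_injective O F M)
  obtain ⟨S, hS⟩ := (Module.Finite.fg_top : (⊤ : Submodule O M).FG)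
  obtain ⟨b, hb⟩ :=
    IsLocalization.exist_integer_multiples_of_finset (nonZeroDivisors O) (S.image j₀)
  have hall : ∀ m : M, (b : O) • j₀ m ∈ LinearMap.range (Algebra.linearMap O F) := by
    intro m
    have hm : m ∈ Submodule.span O (S : Set M) := by rw [hS]; trivial
    induction hm using Submodule.span_induction with
    | mem x hx =>
      obtain ⟨a, ha⟩ := hb (j₀ x) (Finset.mem_image_of_mem _ hx)
      exact ⟨a, ha⟩
    | zero => simp
    | add x y _ _ hx hy =>
      rw [map_add, smul_add]
      exact Submodule.add_mem _ hx hy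
    | smul r x _ hx =>
      rw [map_smul, smul_comm]
      exact Submodule.smul_mem _ _ hx
  let j₁ : M →ₗ[O] LinearMap.range (Algebra.linearMap O F) :=
    LinearMap.codRestrict _ ((b : O) • j₀) hall
  have hinj : Function.Injective (Algebra.linearMap O F) := IsFractionRing.injective O F
  let j : M →ₗ[O] O := (LinearEquiv.ofInjective _ hinj).symm.toLinearMap ∘ₗ j₁
  have hj₁ : Function.Injective j₁ := ?_
  · refine ⟨j, ?_⟩
    have : (j : M → O) = (LinearEquiv.ofInjective _ hinj).symm ∘ j₁ := rfl
    rw [this]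
    exact (LinearEquiv.injective _).comp hj₁
  intro m m' h
  have h2 : (b : O) • j₀ m = (b : O) • j₀ m' := congrArg Subtype.val h
  apply hj₀
  rw [Algebra.smul_def, Algebra.smul_def] at h2
  refine mul_left_cancel₀ ?_ h2
  rw [Ne, map_eq_zero_iff _ (IsFractionRing.injective O F)]
  exact nonZeroDivisors.coe_ne_zero b

end Embed

section PS

variable {k : Type u} [Field k]

theorem exists_mul_eq_of_order_le {x y : PowerSeries k} (hx : x ≠ 0) (h : x.order ≤ y.order) :
    ∃ f, x * f = y := by
  obtain ⟨a, ha⟩ : ∃ a : ℕ, (a : ℕ∞) = x.order := ⟨_, PowerSeries.coe_toNat_order hx⟩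
  have hxa : x.order.toNat = a := by rw [← ha]; rfl
  have hu : IsUnit (PowerSeries.divXPowOrder x) := by
    rw [PowerSeries.isUnit_iff_constantCoeff, PowerSeries.constantCoeff_divXPowOrder]
    exact (PowerSeries.coeff_order hx).isUnit
  obtain ⟨u, hu⟩ := hu
  have hxeq : x = PowerSeries.X ^ a * (u : PowerSeries k) := by
    rw [hu, ← hxa]
    exact PowerSeries.X_pow_order_mul_divXPowOrder.symm
  have hdvd : (PowerSeries.X : PowerSeries k) ^ a ∣ y := by
    rw [PowerSeries.X_pow_dvd_iff]
    intro m hm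
    apply PowerSeries.coeff_of_lt_order
    refine lt_of_lt_of_le ?_ h
    rw [← ha]
    exact_mod_cast hm
  obtain ⟨y', hy'⟩ := hdvd
  refine ⟨(↑u⁻¹ : PowerSeries k) * y', ?_⟩
  rw [hxeq, hy']
  calc PowerSeries.X ^ a * (u : PowerSeries k) * ((↑u⁻¹ : PowerSeries k) * y')
      = PowerSeries.X ^ a * (((u : PowerSeries k) * (↑u⁻¹ : PowerSeries k)) * y') := by ring
    _ = PowerSeries.X ^ a * y' := by rw [Units.mul_inv, one_mul]

/-- Successive approximation: if `W ⊇ t^{c₀}k[[t]]` and all `n ≥ c₁` are values of `W`, then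
`W ⊇ t^{c₁} k[[t]]`. -/
theorem mem_of_order_ge' (W : Submodule k (PowerSeries k)) (Δ : Set ℕ)
    (hΔ : ∀ n, n ∈ Δ ↔ ∃ f ∈ W, PowerSeries.order f = n) (c₀ : ℕ)
    (hc₀ : ∀ h : PowerSeries k, (c₀ : ℕ∞) ≤ h.order → h ∈ W) (c₁ : ℕ)
    (hc₁ : ∀ n, c₁ ≤ n → n ∈ Δ) :
    ∀ h : PowerSeries k, (c₁ : ℕ∞) ≤ h.order → h ∈ W := by
  have claim : ∀ d : ℕ, ∀ h : PowerSeries k, ((c₀ - d : ℕ) : ℕ∞) ≤ h.order →
      (c₁ : ℕ∞) ≤ h.order → h ∈ W := by
    intro d
    induction d with
    | zero =>
      intro h hh _
      exact hc₀ h (by simpa using hh)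
    | succ d ih =>
      intro h hh hh1
      by_cases hd : c₀ ≤ d
      · apply ih h _ hh1
        have e : c₀ - d = c₀ - (d + 1) := by omega
        rw [e]; exact hh
      · push Not at hd
        obtain ⟨n, hn⟩ : ∃ n, n = c₀ - (d + 1) := ⟨_, rfl⟩
        rw [← hn] at hh
        have hn1 : c₀ - d = n + 1 := by omega
        by_cases hnc : c₁ ≤ n
        · obtain ⟨b, hb, hbn⟩ := (hΔ n).mp (hc₁ n hnc)
          obtain ⟨hbn0, hblt⟩ := PowerSeries.order_eq_nat.mp hbn
          have hh' : ((n + 1 : ℕ) : ℕ∞) ≤ PowerSeries.order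
              (h - (PowerSeries.coeff n h / PowerSeries.coeff n b) • b) := by
            apply PowerSeries.nat_le_order
            intro i hi
            rw [map_sub, map_smul, smul_eq_mul]
            rcases Nat.lt_succ_iff_lt_or_eq.mp hi with hlt | heq
            · rw [PowerSeries.coeff_of_lt_order i (lt_of_lt_of_le (by exact_mod_cast hlt) hh),
                hblt i hlt, mul_zero, sub_zero]
            · rw [heq, div_mul_cancel₀ _ hbn0, sub_self]
          have h1 := ih _ (by rw [hn1]; exact hh')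
            (le_trans (by exact_mod_cast (show c₁ ≤ n + 1 by omega)) hh')
          have h2 := W.add_mem h1 (W.smul_mem (PowerSeries.coeff n h / PowerSeries.coeff n b) hb)
          rwa [sub_add_cancel] at h2
        · push Not at hnc
          apply ih h _ hh1
          rw [hn1]
          exact le_trans (by exact_mod_cast (show n + 1 ≤ c₁ by omega)) hh1
  intro h hh
  exact claim c₀ h (by simp) hh

theorem ncard_compl_shift {Δ Δ' : Set ℕ} (d : ℕ) (h : ∀ n, n ∈ Δ' ↔ d ≤ n ∧ n - d ∈ Δ)
    (hfin : Δᶜ.Finite) : Δ'ᶜ.ncard = d + Δᶜ.ncard := by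
  have h1 : Δ'ᶜ = Set.Iio d ∪ (fun n => n + d) '' Δᶜ := by
    ext n
    simp only [Set.mem_compl_iff, h, Set.mem_union, Set.mem_Iio, Set.mem_image]
    constructor
    · intro hn
      by_cases hd : n < d
      · exact Or.inl hd
      · push Not at hd
        refine Or.inr ⟨n - d, fun hmem => hn ⟨hd, hmem⟩, by omega⟩
    · rintro (hd | ⟨m, hm, rfl⟩)
      · intro hn
        omega
      · intro hn
        apply hm
        have : m + d - d = m := by omega
        rw [this] at hn
        exact hn.2
  rw [h1, Set.ncard_union_eq ?_ (Set.finite_Iio d) (hfin.image _),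
    Set.ncard_image_of_injective _ (fun a b hab => by simpa using hab)]
  · congr 1
    rw [← Finset.coe_Iio, Set.ncard_coe_finset, Nat.card_Iio]
  · rw [Set.disjoint_left]
    rintro n hn ⟨m, _, rfl⟩
    rw [Set.mem_Iio] at hn
    simp only at hn
    omega

end PS

end Groth.Agent.Helper19.TFCurv
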