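import Mathlib
import Groth.Agent.Lib.Helper19.TFCurv.RankOne

/-!
# Rank-one torsion-free modules over monomial curve singularities: main theorem (helper19, S15023)
-/

namespace Groth.Agent.Helper19.TFCurv

open scoped TensorProduct

universe u

variable {k : Type u} [Field k] (A : Subalgebra k (PowerSeries k))

/-- Multiplication by `x` as an `A`-linear endomorphism of `k[[t]]`. -/
noncomputable def mulL (x : PowerSeries k) : PowerSeries k →ₗ[↥A] PowerSeries k :=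
  LinearMap.mulLeft ↥A x

theorem mulL_apply (x f : PowerSeries k) : mulL A x f = x * f := rfl

theorem mulL_injective {x : PowerSeries k} (hx : x ≠ 0) : Function.Injective (mulL A x) := by
  intro f g h
  exact mul_left_cancel₀ hx h

theorem rankOne_main
    (Γ : Set ℕ) (hΓ : ∀ n : ℕ, n ∈ Γ ↔ ∃ f ∈ A, PowerSeries.order f = n) (hΓfin : Γᶜ.Finite)
    (hmono : ∀ f : PowerSeries k, f ∈ A ↔ ∀ n : ℕ, PowerSeries.coeff n f ≠ 0 → n ∈ Γ)
    (M : Type u) [AddCommGroup M] [Module ↥A M] [Module.Finite ↥A M] [NoZeroSMulDivisors ↥A M]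
    (hrk : Module.finrank (FractionRing ↥A) (TensorProduct ↥A (FractionRing ↥A) M) = 1) :
    ∃ M' : Submodule ↥A (PowerSeries k),
      (Ideal.span {(PowerSeries.X : PowerSeries k) ^ (2 * Γᶜ.ncard)}).restrictScalars ↥A ≤ M' ∧
      Nonempty (M ≃ₗ[↥A] ↥M') ∧
      Module.finrank k (PowerSeries k ⧸ M'.restrictScalars k) = Γᶜ.ncard := by
  classical
  -- Step 1: embed `M` in `k[[t]]`
  obtain ⟨j, hj⟩ := exists_injective_to_self ↥A (FractionRing ↥A) M hrk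
  let j' : M →ₗ[↥A] PowerSeries k := (Algebra.linearMap ↥A (PowerSeries k)) ∘ₗ j
  have hj' : Function.Injective j' := by
    have : (j' : M → PowerSeries k) = (Subtype.val : ↥A → PowerSeries k) ∘ j := rfl
    rw [this]
    exact Subtype.val_injective.comp hj
  obtain ⟨I', hI'⟩ : ∃ I' : Submodule ↥A (PowerSeries k), I' = LinearMap.range j' := ⟨_, rfl⟩
  have eI : M ≃ₗ[↥A] ↥I' := (LinearEquiv.ofInjective j' hj').trans (LinearEquiv.ofEq _ _ hI'.symm)
  -- Step 2: element of minimal order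
  haveI : Nontrivial M := by
    by_contra hnt
    rw [not_nontrivial_iff_subsingleton] at hnt
    haveI := hnt
    have : Module.finrank (FractionRing ↥A) (TensorProduct ↥A (FractionRing ↥A) M) = 0 :=
      Module.finrank_zero_of_subsingleton
    omega
  obtain ⟨m₀, hm₀⟩ := exists_ne (0 : M)
  have hex : ∃ n : ℕ, ∃ y ∈ I', PowerSeries.order y = (n : ℕ∞) := by
    have hy0 : j' m₀ ≠ 0 := fun h => hm₀ (hj' (by rw [h, map_zero]))
    exact ⟨_, j' m₀, by rw [hI']; exact ⟨m₀, rfl⟩, (PowerSeries.coe_toNat_order hy0).symm⟩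
  obtain ⟨x, hxI, hxa⟩ := Nat.find_spec hex
  have hx0 : x ≠ 0 := by
    intro h
    rw [h, PowerSeries.order_zero] at hxa
    exact ENat.top_ne_natCast _ hxa
  have hxmin : ∀ y ∈ I', x.order ≤ y.order := by
    intro y hy
    by_cases hy0 : y = 0
    · rw [hy0, PowerSeries.order_zero]; exact le_top
    · rw [hxa, ← PowerSeries.coe_toNat_order hy0]
      exact_mod_cast Nat.find_min' hex ⟨y, hy, (PowerSeries.coe_toNat_order hy0).symm⟩
  -- Step 3: normalize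
  obtain ⟨M₁, hM₁⟩ : ∃ M₁ : Submodule ↥A (PowerSeries k), M₁ = I'.comap (mulL A x) := ⟨_, rfl⟩
  have hmemM₁ : ∀ f, f ∈ M₁ ↔ x * f ∈ I' := by
    intro f; rw [hM₁]; rfl
  have h1 : (1 : PowerSeries k) ∈ M₁ := by
    rw [hmemM₁, mul_one]; exact hxI
  have hA_le : ∀ a ∈ A, a ∈ M₁ := by
    intro a ha
    have := M₁.smul_mem (⟨a, ha⟩ : ↥A) h1
    rwa [Subalgebra.smul_def, smul_eq_mul, mul_one] at this
  have hmap : M₁.map (mulL A x) = I' := by
    rw [hM₁]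
    apply Submodule.map_comap_eq_of_le
    intro y hy
    obtain ⟨f, hf⟩ := exists_mul_eq_of_order_le hx0 (hxmin y hy)
    exact ⟨f, hf⟩
  have eM₁ : ↥M₁ ≃ₗ[↥A] ↥I' :=
    (Submodule.equivMapOfInjective (mulL A x) (mulL_injective A hx0) M₁).trans
      (LinearEquiv.ofEq _ _ hmap)
  -- Step 4: value sets
  obtain ⟨Δ, hΔdef⟩ : ∃ Δ : Set ℕ, Δ = {n : ℕ | ∃ f ∈ M₁, PowerSeries.order f = (n : ℕ∞)} := ⟨_, rfl⟩
  have hΔ : ∀ n, n ∈ Δ ↔ ∃ f ∈ M₁.restrictScalars k, PowerSeries.order f = (n : ℕ∞) := by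
    intro n; rw [hΔdef]; rfl
  have hsub : Γ ⊆ Δ := by
    intro n hn
    obtain ⟨f, hf, hfn⟩ := (hΓ n).mp hn
    exact (hΔ n).mpr ⟨f, hA_le f hf, hfn⟩
  have hadd : ∀ a ∈ Γ, ∀ b ∈ Δ, a + b ∈ Δ := by
    intro a ha b hb
    obtain ⟨fa, hfa, hfa'⟩ := (hΓ a).mp ha
    obtain ⟨fb, hfb, hfb'⟩ := (hΔ b).mp hb
    refine (hΔ _).mpr ⟨fa * fb, ?_, ?_⟩
    · have := M₁.smul_mem (⟨fa, hfa⟩ : ↥A) hfb
      rwa [Subalgebra.smul_def, smul_eq_mul] at this
    · rw [PowerSeries.order_mul, hfa', hfb']; norm_cast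
  -- Step 5: conductor of Γ
  obtain ⟨c₀, hc₀Γ⟩ : ∃ c₀ : ℕ, ∀ n, c₀ ≤ n → n ∈ Γ := by
    obtain ⟨b, hb⟩ := hΓfin.bddAbove
    refine ⟨b + 1, fun n hn => ?_⟩
    by_contra hnΓ
    have := hb hnΓ
    omega
  have hc₀ : ∀ h : PowerSeries k, (c₀ : ℕ∞) ≤ h.order → h ∈ M₁.restrictScalars k := by
    intro h hh
    apply hA_le
    rw [hmono]
    intro n hn
    apply hc₀Γ
    have := le_trans hh (PowerSeries.order_le n hn)
    exact_mod_cast this
  -- Step 6: conductor of Δ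
  have hexc : ∃ c : ℕ, ∀ n, c ≤ n → n ∈ Δ := ⟨c₀, fun n hn => hsub (hc₀Γ n hn)⟩
  obtain ⟨c₁, hc₁def⟩ : ∃ c₁, c₁ = Nat.find hexc := ⟨_, rfl⟩
  have hc₁ : ∀ n, c₁ ≤ n → n ∈ Δ := by rw [hc₁def]; exact Nat.find_spec hexc
  have hc₁' : c₁ = 0 ∨ c₁ - 1 ∉ Δ := by
    by_cases h0 : c₁ = 0
    · exact Or.inl h0
    · right
      intro hmem
      have hlt : c₁ - 1 < Nat.find hexc := by rw [← hc₁def]; omega
      apply Nat.find_min hexc hlt
      intro n hn
      by_cases hn' : c₁ ≤ n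
      · exact hc₁ n hn'
      · have : n = c₁ - 1 := by omega
        rw [this]; exact hmem
  have hbound := conductor_le hsub hadd hΓfin c₁ hc₁'
  have hM₁c : ∀ h : PowerSeries k, (c₁ : ℕ∞) ≤ h.order → h ∈ M₁.restrictScalars k :=
    mem_of_order_ge' (M₁.restrictScalars k) Δ hΔ c₀ hc₀ c₁ hc₁
  have hΔfin : Δᶜ.Finite := hΓfin.subset (Set.compl_subset_compl.mpr hsub)
  have hgle : Δᶜ.ncard ≤ Γᶜ.ncard :=
    Set.ncard_le_ncard (Set.compl_subset_compl.mpr hsub) hΓfin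
  obtain ⟨d, hd⟩ : ∃ d, d = Γᶜ.ncard - Δᶜ.ncard := ⟨_, rfl⟩
  -- Step 7: the shifted module
  obtain ⟨M', hM'⟩ : ∃ M' : Submodule ↥A (PowerSeries k),
      M' = M₁.map (mulL A (PowerSeries.X ^ d)) := ⟨_, rfl⟩
  have hXd : (PowerSeries.X : PowerSeries k) ^ d ≠ 0 := pow_ne_zero _ PowerSeries.X_ne_zero
  have eM' : ↥M₁ ≃ₗ[↥A] ↥M' :=
    (Submodule.equivMapOfInjective (mulL A (PowerSeries.X ^ d)) (mulL_injective A hXd) M₁).trans
      (LinearEquiv.ofEq _ _ hM'.symm)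
  have hmemM' : ∀ f, f ∈ M' ↔ ∃ f₁ ∈ M₁, PowerSeries.X ^ d * f₁ = f := by
    intro f; rw [hM']; rfl
  have hM'c : ∀ h : PowerSeries k, ((c₁ + d : ℕ) : ℕ∞) ≤ h.order → h ∈ M'.restrictScalars k := by
    intro h hh
    have hdvd : (PowerSeries.X : PowerSeries k) ^ d ∣ h := by
      rw [PowerSeries.X_pow_dvd_iff]
      intro m hm
      apply PowerSeries.coeff_of_lt_order
      refine lt_of_lt_of_le ?_ hh
      exact_mod_cast (show m < c₁ + d by omega)
    obtain ⟨h', rfl⟩ := hdvd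
    refine (hmemM' _).mpr ⟨h', hM₁c h' ?_, rfl⟩
    rw [PowerSeries.order_mul, PowerSeries.order_X_pow, Nat.cast_add, add_comm] at hh
    exact (ENat.add_le_add_iff_left (ENat.natCast_ne_top d)).mp hh
  refine ⟨M', ?_, ⟨eI.trans (eM₁.symm.trans eM')⟩, ?_⟩
  · intro f hf
    rw [Submodule.restrictScalars_mem, Ideal.mem_span_singleton] at hf
    apply hM'c
    obtain ⟨g, rfl⟩ := hf
    rw [PowerSeries.order_mul, PowerSeries.order_X_pow]
    refine le_trans ?_ (le_self_add)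
    exact_mod_cast (show c₁ + d ≤ 2 * Γᶜ.ncard by omega)
  · obtain ⟨Δ', hΔ'def⟩ : ∃ Δ' : Set ℕ,
        Δ' = {n : ℕ | ∃ f ∈ M'.restrictScalars k, PowerSeries.order f = (n : ℕ∞)} := ⟨_, rfl⟩
    have hΔ' : ∀ n, n ∈ Δ' ↔ ∃ f ∈ M'.restrictScalars k, PowerSeries.order f = (n : ℕ∞) := by
      intro n; rw [hΔ'def]; rfl
    obtain ⟨_, hfr⟩ := finrank_quot_eq_ncard_gaps (M'.restrictScalars k) (c₁ + d) hM'c Δ' hΔ'
    rw [hfr]
    have hshift : ∀ n, n ∈ Δ' ↔ d ≤ n ∧ n - d ∈ Δ := by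
      intro n
      rw [hΔ', hΔ]
      constructor
      · rintro ⟨f, hf, hfn⟩
        obtain ⟨f₁, hf₁, rfl⟩ := (hmemM' f).mp hf
        rw [PowerSeries.order_mul, PowerSeries.order_X_pow] at hfn
        have hf₁0 : f₁ ≠ 0 := by
          intro h0
          rw [h0, PowerSeries.order_zero, add_top] at hfn
          exact ENat.top_ne_natCast _ hfn
        rw [← PowerSeries.coe_toNat_order hf₁0] at hfn
        have hfn' : d + f₁.order.toNat = n := by exact_mod_cast hfn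
        refine ⟨by omega, f₁, hf₁, ?_⟩
        rw [← PowerSeries.coe_toNat_order hf₁0]
        congr 1
        omega
      · rintro ⟨hdn, f₁, hf₁, hfn⟩
        refine ⟨PowerSeries.X ^ d * f₁, (hmemM' _).mpr ⟨f₁, hf₁, rfl⟩, ?_⟩
        rw [PowerSeries.order_mul, PowerSeries.order_X_pow, hfn, ← Nat.cast_add]
        congr 1
        omega
    rw [ncard_compl_shift d hshift hΔfin, hd]
    omega

end Groth.Agent.Helper19.TFCurv
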